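import Cfsg.Agent.Screen.CosetEnum.OrderGlue
import Cfsg.Agent.Screen.CosetEnum.PresFi22
import Cfsg.Agent.Screen.CosetEnum.Fi22O73.Checked
import Cfsg.Agent.Screen.CosetEnum.Fi22Ord.F22L2.Checked
import Cfsg.Agent.Screen.CosetEnum.Fi22Ord.F22L1.Checked
import Cfsg.Agent.Screen.CosetEnum.Fi22Ord.F22L0.Checked

/-!
# An upper bound on the order
-/

set_option autoImplicit false
set_option maxRecDepth 20000

namespace Cfsg.Agent.Screen.CosetEnum.Fi22Ord

open Cfsg.Agent.Screen.CosetEnum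

/-- Local to global numbering. -/
def mF22L2 : ℕ → ℕ
  | 0 => 1
  | 1 => 2
  | 2 => 3
  | 3 => 4
  | 4 => 5
  | 5 => 6
  | 6 => 7
  | 7 => 8
  | _ => 9

/-- Local to global numbering. -/
def mF22L1 : ℕ → ℕ
  | 0 => 1
  | 1 => 2
  | 2 => 3
  | 3 => 4
  | 4 => 5
  | 5 => 6
  | 6 => 7
  | _ => 9

/-- Local to global numbering. -/
def mF22L0 : ℕ → ℕ
  | 0 => 1
  | 1 => 2
  | 2 => 3
  | 3 => 4
  | 4 => 5
  | 5 => 6
  | _ => 9

/-- Local to global numbering. -/
def mF22X : ℕ → ℕ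
  | 0 => 0
  | 1 => 1
  | 2 => 2
  | 3 => 3
  | 4 => 4
  | 5 => 5
  | 6 => 6
  | 7 => 7
  | 8 => 8
  | _ => 9

theorem rels_hold {ws : List (List ℕ)} (m : ℕ → ℕ)
    (h : ws.all (fun w => decide (w.map m ∈ PresFi22.relList ++ ([] : List (List ℕ)))) = true) :
    ∀ w ∈ ws, evalW (fun x => PresFi22.gens (m x)) w = 1 := fun w hw => by
  rw [evalW_map]
  rcases List.mem_append.1 (of_decide_eq_true (List.all_eq_true.1 h w hw)) with hm | hm
  · exact PresFi22.gens_rels _ hm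
  · exact (fun _ h => absurd h List.not_mem_nil) _ hm

/-- Order bound. -/
theorem finite_and_card_le : Finite Cfsg.Spor.Fi22 ∧ Nat.card Cfsg.Spor.Fi22 ≤ 64561751654400 := by
  obtain ⟨f0, b0⟩ := F22L0.checked.card_le (fun x => PresFi22.gens (mF22L0 x)) (fun x => PresFi22.gens_sq _)
    (PresFi22.gens_out _ (by decide)) (rels_hold mF22L0 (by decide +kernel))
    (Subgroup.closure {g | ∃ x < F22L0.tbl.ng, g = PresFi22.gens (mF22L0 x)}) ⊥ rfl (closure_nil (fun x => PresFi22.gens (mF22L0 x))) inferInstance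
  rw [Subgroup.card_bot] at b0
  obtain ⟨f1, b1⟩ := F22L1.checked.card_le (fun x => PresFi22.gens (mF22L1 x)) (fun x => PresFi22.gens_sq _)
    (PresFi22.gens_out _ (by decide)) (rels_hold mF22L1 (by decide +kernel))
    (Subgroup.closure {g | ∃ x < F22L1.tbl.ng, g = PresFi22.gens (mF22L1 x)}) _ rfl
    (closure_chain PresFi22.gens mF22L0 mF22L1 F22L0.tbl.ng F22L1.tbl.subs (by decide +kernel)).symm f0
  obtain ⟨f2, b2⟩ := F22L2.checked.card_le (fun x => PresFi22.gens (mF22L2 x)) (fun x => PresFi22.gens_sq _)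
    (PresFi22.gens_out _ (by decide)) (rels_hold mF22L2 (by decide +kernel))
    (Subgroup.closure {g | ∃ x < F22L2.tbl.ng, g = PresFi22.gens (mF22L2 x)}) _ rfl
    (closure_chain PresFi22.gens mF22L1 mF22L2 F22L1.tbl.ng F22L2.tbl.subs (by decide +kernel)).symm f1
  obtain ⟨fT, bT⟩ := Fi22O73.checked.card_le PresFi22.gens PresFi22.gens_sq (PresFi22.gens_out _ (by decide))
    PresFi22.gens_rels ⊤ _ (closure_top PresFi22.gens Fi22O73.tbl.ng PresFi22.gens_out PresFi22.gens_top)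
    (closure_chain PresFi22.gens mF22L2 (fun x => x) F22L2.tbl.ng Fi22O73.tbl.subs (by decide +kernel)).symm f2
  haveI := fT
  refine ⟨Finite.of_equiv _ Subgroup.topEquiv.toEquiv, ?_⟩
  rw [Subgroup.card_top] at bT
  rw [show F22L0.tbl.n = 5040 from rfl] at b0
  rw [show F22L1.tbl.n = 288 from rfl] at b1
  rw [show F22L2.tbl.n = 3159 from rfl] at b2
  rw [show Fi22O73.tbl.n = 14080 from rfl] at bT
  omega

end Cfsg.Agent.Screen.CosetEnum.Fi22Ord
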