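import Cfsg.Agent.Screen.CosetEnum.Simple
import Cfsg.Agent.Screen.CosetEnum.Fi22U62.Orbits
import Cfsg.Agent.Screen.CosetEnum.Fi22Ord.Upper
import Cfsg.Agent.Screen.CosetEnum.Fi22Ord.Lower
import Cfsg.Agent.Screen.CosetEnum.Fi22Ord.F22X.Checked

/-!
# Simplicity and order
-/

set_option autoImplicit false
set_option maxRecDepth 20000

namespace Cfsg.Agent.Screen.CosetEnum.Fi22Ord

open Cfsg.Agent.Screen.CosetEnum

/-- The test word. -/
def xw : List ℕ := [1, 0, 5, 3, 2, 3, 6, 7, 8, 4]

/-- The orbits. -/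
def orbs : List (ℕ × ℕ) := [(1, Fi22U62.orb0), (6, Fi22U62.orb1)]

theorem prim : Fi22U62.tbl.primOK orbs = true := by decide +kernel

theorem xfix : Fi22U62.tbl.fixesAll (pw 13 xw) Fi22U62.tbl.n = true := by decide +kernel

/-- The presented group is simple of the expected order. -/
theorem isSimple_and_card : IsSimpleGroup Cfsg.Spor.Fi22 ∧ Nat.card Cfsg.Spor.Fi22 = 64561751654400 := by
  obtain ⟨f, hf⟩ := PresFi22.exists_hom Fi22U62.checked.perm (fun x => Fi22U62.checked.perm_sq x) Fi22U62.checked.perm_rel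
  haveI : Finite Cfsg.Spor.Fi22 := finite_and_card_le.1
  have hge := card_range_ge hf
  have hcard : Nat.card Cfsg.Spor.Fi22 = 64561751654400 :=
    le_antisymm finite_and_card_le.2 (hge.trans (Nat.card_le_card_of_surjective f.rangeRestrict f.rangeRestrict_surjective))
  have hinj := injective_of_card f (hcard.le.trans hge)
  obtain ⟨H, hHdef⟩ : ∃ H : Subgroup Cfsg.Spor.Fi22,
      H = Subgroup.closure {g | ∃ w ∈ Fi22U62.tbl.subs, g = evalW PresFi22.gens w} := ⟨_, rfl⟩
  obtain ⟨e, he0, he⟩ := Fi22U62.checked.exists_equiv PresFi22.gens PresFi22.gens_sq PresFi22.gens_out PresFi22.gens_rels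
    PresFi22.gens_top H hHdef f hf
  have hfW : ∀ w : List ℕ, (∀ y ∈ w, y < 9) → f (evalW PresFi22.gens w) = evalW Fi22U62.checked.perm w := by
    intro w
    induction w with
    | nil => simp [evalW]
    | cons a w ih =>
      intro hw
      rw [evalW, evalW, map_mul, ih (fun y hy => hw y (List.mem_cons_of_mem _ hy)), hf a (hw a List.mem_cons_self)]
  have hxl : ∀ y ∈ xw, y < 9 := by decide +kernel
  have hx : evalW PresFi22.gens xw ^ 13 ^ 1 = 1 := by
    rw [show 13 ^ 1 = 13 * 1 from rfl, pow_mul, ← evalW_pw,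
      show evalW PresFi22.gens (pw 13 xw) = 1 from ?_, one_pow]
    refine hinj ?_
    rw [map_one, hfW _ (by decide +kernel)]
    refine Equiv.ext fun c => Fin.ext ?_
    rw [Fi22U62.checked.app_eq _ (by decide +kernel), Equiv.Perm.one_apply]
    exact Tab.fixesAll_spec xfix c c.isLt
  have hx1 : evalW PresFi22.gens xw ≠ 1 := by
    intro h
    have h2 := congrArg (fun g => ((f g ⟨0, by decide +kernel⟩ : Fin Fi22U62.tbl.n) : ℕ)) h
    simp only [map_one, Equiv.Perm.one_apply, hfW _ hxl, Fi22U62.checked.app_eq _ hxl] at h2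
    exact absurd h2 (by decide +kernel)
  have hHcard : Nat.card Cfsg.Spor.Fi22 = Fi22U62.tbl.n * Nat.card H := by
    rw [← H.index_mul_card, Subgroup.index, ← Nat.card_congr e, Nat.card_fin]
  refine ⟨Fi22U62.checked.isSimple PresFi22.gens hHdef hf hinj e he0 he orbs ?_ prim (by decide +kernel) 13 1
    (by norm_num) (by decide +kernel) ?_ _ hx hx1 ?_, hcard⟩
  · intro o ho
    simp only [orbs, List.mem_cons, List.not_mem_nil, or_false] at ho
    rcases ho with rfl | rfl
    · exact ⟨_, _, Fi22U62.orbit0⟩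
    · exact ⟨_, _, Fi22U62.orbit1⟩
  · rw [hcard, show Fi22U62.tbl.n = 3510 from rfl] at hHcard
    omega
  · intro N hN hxN
    haveI := hN
    set π := QuotientGroup.mk' N
    have hπ : Function.Surjective π := QuotientGroup.mk'_surjective N
    obtain ⟨fQ, bQ⟩ := F22X.checked.card_le (fun y => π (PresFi22.gens y))
      (fun y => by rw [← map_mul, PresFi22.gens_sq, map_one])
      (by rw [PresFi22.gens_out _ (by decide), map_one])
      (fun w hw => by
        rw [← evalW_hom π]
        have h : w ∈ PresFi22.relList ∨ w = xw :=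
          of_decide_eq_true (List.all_eq_true.1
            (show F22X.tbl.rels.all (fun w => decide (w ∈ PresFi22.relList ∨ w = xw)) = true by decide +kernel) w hw)
        rcases h with h | rfl
        · rw [PresFi22.gens_rels _ h, map_one]
        · exact (QuotientGroup.eq_one_iff _).2 hxN)
      ⊤ ⊥ (closure_top _ F22X.tbl.ng (fun y hy => by rw [PresFi22.gens_out y hy, map_one])
        (by rw [Set.range_comp' π PresFi22.gens, ← MonoidHom.map_closure, PresFi22.gens_top]
            exact Subgroup.map_top_of_surjective _ hπ))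
      (closure_nil _) inferInstance
    rw [Subgroup.card_bot, Subgroup.card_top, show F22X.tbl.n = 1 from rfl] at bQ
    have hpos : 0 < Nat.card (Cfsg.Spor.Fi22 ⧸ N) := Nat.card_pos
    exact Subgroup.index_eq_one.1 (show Nat.card (Cfsg.Spor.Fi22 ⧸ N) = 1 by omega)

end Cfsg.Agent.Screen.CosetEnum.Fi22Ord
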